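import Groth.Agent.ConeLines.Transfer
import Groth.Agent.PlaneParam.Generic
import Mathlib

/-! Sequences of forms cutting out too large a set form a locus of large codimension. -/

namespace Groth.Agent.SeqCodim

open MvPolynomial ConeLines

universe u

variable {m d : ℕ}

/-- coefficient indices of tuples of forms of degrees `1, …, d` -/
abbrev Idx (m d : ℕ) := Σ j : Fin d, PlaneParam.Exps m (j.1 + 1)

/-- the universal tuple -/
noncomputable def formOf {R : Type u} [CommRing R] (c : Idx m d → R) (j : Fin d) : MvPolynomial (Fin (m + 1)) R :=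
  ∑ e : PlaneParam.Exps m (j.1 + 1), monomial e.1 (c ⟨j, e⟩)

theorem formOf_hom {R : Type u} [CommRing R] (c : Idx m d → R) (j : Fin d) : (formOf c j).IsHomogeneous (j.1 + 1) :=
  PlaneParam.isHomogeneous_sum _

theorem map_formOf {R S : Type u} [CommRing R] [CommRing S] (φ : R →+* S) (c : Idx m d → R) (j : Fin d) :
    map φ (formOf c j) = formOf (fun i => φ (c i)) j := by simp [formOf, map_sum]

theorem coeff_formOf {R : Type u} [CommRing R] (c : Idx m d → R) (j : Fin d) (e : PlaneParam.Exps m (j.1 + 1)) :
    coeff e.1 (formOf c j) = c ⟨j, e⟩ := by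
  simp only [formOf, coeff_sum, coeff_monomial]
  rw [Finset.sum_eq_single e (fun b _ hb => if_neg fun h => hb (Subtype.ext h)) (by simp), if_pos rfl]

/-- every rational linear `d`-space meets the common zeros -/
def Meets {k K : Type u} [Field k] [Field K] [Algebra k K] (c : Idx m d → K) : Prop :=
  ∀ A : Matrix (Fin (m + 1)) (Fin d) k, ∃ l : Fin d → K, l ≠ 0 ∧
    ∀ j, eval ((A.map (algebraMap k K)).mulVec l) (formOf c j) = 0

variable {k : Type u} [Field k]

set_option maxHeartbeats 1000000 in
set_option synthInstance.maxHeartbeats 200000 in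
theorem meets_of_dim [IsAlgClosed k] (G : Idx m d → k)
    (hdim : ((m + 2 - d : ℕ) : WithBot ℕ∞) ≤
      ringKrullDim (MvPolynomial (Fin (m + 1)) k ⧸ Ideal.span (Set.range fun j : Fin d => formOf G j)))
    (hdm : d + 2 ≤ m) : Meets (k := k) G := by
  classical
  intro A
  by_contra hcon
  push Not at hcon
  simp only [Algebra.algebraMap_self, RingHom.coe_id, Matrix.map_id] at hcon
  have hno : ∀ l : Fin d → k, (∀ j, eval (A.mulVec l) (formOf G j) = 0) → l = 0 := fun l hl => by
    by_contra hl0
    obtain ⟨j, hj⟩ := hcon l hl0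
    exact hj (hl j)
  obtain ⟨hdn, B, L, q, hAB, -, -⟩ := exists_split A fun l hl => hno l fun j => by
    rw [hl, eval_zero, constantCoeff_eq, (formOf_hom G j).coeff_eq_zero (by simp)]
  let I : Ideal (MvPolynomial (Fin (m + 1)) k) := Ideal.span (Set.range fun j : Fin d => formOf G j)
  let π : MvPolynomial (Fin (m + 1)) k →ₐ[k] MvPolynomial (Fin (m + 1)) k ⧸ I := Ideal.Quotient.mkₐ k I
  let z : Fin (m + 1 - d) → MvPolynomial (Fin (m + 1)) k ⧸ I := fun t => π (∑ a, C (q t a) * X a)
  let S : Subalgebra k (MvPolynomial (Fin (m + 1)) k ⧸ I) :=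
    (aeval z : MvPolynomial (Fin (m + 1 - d)) k →ₐ[k] MvPolynomial (Fin (m + 1)) k ⧸ I).range
  have hzS : ∀ t, z t ∈ S := fun t => ⟨X t, aeval_X _ _⟩
  let ρ : Fin (m + 1) → S := fun a => ∑ t, algebraMap k S (B a t) * ⟨z t, hzS _⟩
  let xl : Fin d → MvPolynomial (Fin (m + 1)) k ⧸ I := fun b => π (∑ a, C (L b a) * X a)
  have hx : ∀ a, π (X a) = ∑ b, algebraMap k (MvPolynomial (Fin (m + 1)) k ⧸ I) (A a b) * xl b + (ρ a : MvPolynomial (Fin (m + 1)) k ⧸ I) := by
    intro a
    have hcoe : (ρ a : MvPolynomial (Fin (m + 1)) k ⧸ I) = ∑ t, algebraMap k _ (B a t) * z t := by simp [ρ]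
    rw [hcoe]
    simp only [z, xl, ← AlgHom.commutes π, ← map_mul, ← map_sum, ← map_add]
    refine congrArg π ?_
    simp only [Finset.mul_sum, ← mul_assoc, ← map_mul, algebraMap_eq]
    rw [Finset.sum_comm, Finset.sum_comm (s := (Finset.univ : Finset (Fin (m + 1 - d))))]
    simp only [← Finset.sum_add_distrib, ← Finset.sum_mul, ← map_sum, ← map_add]
    have h1 : ∀ a', (∑ b, A a b * L b a') + ∑ t, B a t * q t a' = if a = a' then 1 else 0 := fun a' => by
      have := congrFun (congrFun hAB a) a'
      rw [Matrix.add_apply, Matrix.mul_apply, Matrix.mul_apply, Matrix.one_apply] at this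
      exact this
    simp only [← add_mul, ← map_add, h1]
    simp [apply_ite (C : k → MvPolynomial (Fin (m + 1)) k)]
  let h : Fin d → MvPolynomial (Fin d) S := fun i =>
    aeval (fun a => (∑ b, C (algebraMap k S (A a b)) * X b) + C (ρ a)) (map (algebraMap k S) (formOf G i))
  have hxl : ∀ i, aeval xl (h i) = 0 := fun i => by
    have e : (aeval xl).toRingHom.comp ((aeval fun a => (∑ b, C (algebraMap k S (A a b)) * X b) + C (ρ a) :
        MvPolynomial (Fin (m + 1)) S →ₐ[S] MvPolynomial (Fin d) S).toRingHom.comp (map (algebraMap k S))) =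
        π.toRingHom := by
      refine MvPolynomial.ringHom_ext (fun r => ?_) fun a => ?_
      · simp [← IsScalarTower.algebraMap_apply]
      · simp [hx a, ← IsScalarTower.algebraMap_apply]
    exact (RingHom.congr_fun e _).trans (Ideal.Quotient.eq_zero_iff_mem.2 (Ideal.subset_span ⟨i, rfl⟩))
  have hint := isIntegral_of_top (E := k) (K := k) (fun i : Fin d => (i : ℕ) + 1)
    (fun i => aeval (fun a => ∑ b, C (A a b) * X b) (formOf G i))
    (fun i => isHomogeneous_linear _ (formOf_hom G i))
    (fun l hl => hno l fun j => by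
      have := hl j
      simp only [aeval_eq_eval] at this
      rw [eval_aeval] at this
      rw [show A.mulVec l = fun a => ∑ x, A a x * l x from funext fun a => by simp [Matrix.mulVec, dotProduct]]
      simpa using this)
    h (fun i => by
      have := affine_subst (fun a b => algebraMap k S (A a b)) ρ ((formOf_hom G i).map (algebraMap k S))
      have e : map (algebraMap k S) (aeval (fun a => ∑ b, C (A a b) * X b) (formOf G i)) =
          aeval (fun a => ∑ b, C (algebraMap k S (A a b)) * X b) (map (algebraMap k S) (formOf G i)) := by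
        induction formOf G i using MvPolynomial.induction_on with
        | C r => simp
        | add p q hp hq => simp only [map_add, hp, hq]
        | mul_X p j hp => simp only [map_mul, hp, aeval_X, map_X, map_sum, map_C]
      rw [e]
      exact this)
    xl hxl
  haveI : Algebra.IsIntegral S (MvPolynomial (Fin (m + 1)) k ⧸ I) := ⟨fun y => by
    obtain ⟨p, rfl⟩ := Ideal.Quotient.mkₐ_surjective k I y
    show IsIntegral S (π p)
    have hc : ∀ s : S, IsIntegral S (s : MvPolynomial (Fin (m + 1)) k ⧸ I) := fun s => isIntegral_algebraMap (x := s)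
    induction p using MvPolynomial.induction_on with
    | C r =>
      rw [show π (C r) = ((algebraMap k S r : S) : MvPolynomial (Fin (m + 1)) k ⧸ I) from π.commutes r]
      exact hc _
    | add p q hp hq => rw [map_add]; exact hp.add hq
    | mul_X p j hp =>
      rw [map_mul]
      refine hp.mul ?_
      rw [hx]
      exact (IsIntegral.sum _ fun b _ => IsIntegral.mul (hc (algebraMap k S (A j b))) (hint b)).add (hc _)⟩
  have hS : ringKrullDim S ≤ (m + 1 - d : ℕ) := by
    refine (ringKrullDim_le_of_surjective _ (aeval z : MvPolynomial (Fin (m + 1 - d)) k →ₐ[k] MvPolynomial (Fin (m + 1)) k ⧸ I).rangeRestrict_surjective).trans ?_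
    rw [MvPolynomial.ringKrullDim_of_isNoetherianRing, ringKrullDim_eq_zero_of_field, zero_add]
    simp
  have h' : ((m + 2 - d : ℕ) : WithBot ℕ∞) ≤ ((m + 1 - d : ℕ) : WithBot ℕ∞) :=
    hdim.trans ((ringKrullDim_le_of_integral (S := S)).trans hS)
  have : m + 2 - d ≤ m + 1 - d := by exact_mod_cast h'
  omega

variable {K : Type u} [Field K] [IsAlgClosed K] [Algebra k K]

set_option maxHeartbeats 1600000 in
/-- meeting every rational space costs `m + 1` parameters -/
theorem exists_generators [IsAlgClosed k] (hdm : d + 2 ≤ m) (c : Idx m d → K) (hc : Meets (k := k) c) :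
    ∃ (r : ℕ) (γ : Fin r → K), r + (m + 1) ≤ Fintype.card (Idx m d) ∧
      ∀ i, IsAlgebraic (IntermediateField.adjoin k (Set.range γ)) (c i) := by
  classical
  suffices H : ∀ j, j ≤ d →
      (∃ A : Matrix (Fin (m + 1)) (Fin j) k, ∀ l : Fin j → K,
        (∀ i : Fin d, i.1 < j → eval ((A.map (algebraMap k K)).mulVec l) (formOf c i) = 0) → l = 0) ∨
      (∃ (r : ℕ) (γ : Fin r → K), r + (m + 1) ≤ Fintype.card (Idx m d) ∧
        ∀ i, IsAlgebraic (IntermediateField.adjoin k (Set.range γ)) (c i)) by
    rcases H d le_rfl with ⟨A, hA⟩ | h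
    · obtain ⟨l, hl0, hl⟩ := hc A
      exact absurd (hA l fun i _ => hl i) hl0
    · exact h
  intro j
  induction j with
  | zero => exact fun _ => Or.inl ⟨0, fun l _ => funext fun a => a.elim0⟩
  | succ j ih =>
    intro hj
    rcases ih (by omega) with ⟨A, hA⟩ | h
    swap
    · exact Or.inr h
    let j₀ : Fin d := ⟨j, by omega⟩
    set AK := A.map (algebraMap k K) with hAK
    have hAinj : ∀ l, A.mulVec l = 0 → l = 0 := fun l hl => by
      have h' := hA (fun b => algebraMap k K (l b)) fun i hi => by
        have : AK.mulVec (fun b => algebraMap k K (l b)) = 0 := funext fun a => by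
          have := (algebraMap k K).map_mulVec A l a
          rw [hl] at this
          simpa [hAK, Function.comp_def] using this.symm
        rw [this, eval_zero, constantCoeff_eq, (formOf_hom c i).coeff_eq_zero (by simp)]
      exact funext fun b => by simpa using congrFun h' b
    obtain ⟨hjn, B, L, q, hAB, hqA, hqB⟩ := exists_split A hAinj
    obtain ⟨cpt, G, hG, hGc⟩ := exists_points (k := k) (m := m + 1 - j) (r := j + 1) (t := m + 1) (by omega) (by
      rw [show m + 1 - j - 1 + (j + 1) = m + 1 by omega]
      exact le_choose (by omega) (by omega))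
    set BK := B.map (algebraMap k K) with hBK
    by_cases hext : ∃ A' : Matrix (Fin (m + 1)) (Fin (j + 1)) k, ∀ l : Fin (j + 1) → K,
        (∀ i : Fin d, i.1 < j + 1 → eval ((A'.map (algebraMap k K)).mulVec l) (formOf c i) = 0) → l = 0
    · exact Or.inl hext
    push Not at hext
    right
    have hlift : ∀ a : Fin (m + 1), ∃ l : Fin j → K, ∀ i : Fin d, i.1 < j + 1 →
        eval (AK.mulVec l + BK.mulVec fun b => algebraMap k K (cpt a b)) (formOf c i) = 0 := by
      intro a
      obtain ⟨l, hl, hl0⟩ := hext (Matrix.of fun r c' => (Fin.snoc (fun b => A r b) (B.mulVec (cpt a) r) : Fin (j + 1) → k) c')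
      set u := BK.mulVec fun b => algebraMap k K (cpt a b) with hu
      have he : ∀ i : Fin d, i.1 < j + 1 → eval (AK.mulVec (Fin.init l) + l (Fin.last j) • u) (formOf c i) = 0 := by
        intro i h2
        refine Eq.trans (congrArg (fun y => eval y (formOf c i)) ?_) (hl i h2)
        funext r
        simp [hu, hAK, hBK, Matrix.mulVec, dotProduct, Fin.sum_univ_castSucc, Fin.init, Finset.sum_mul, Finset.mul_sum]
        refine Finset.sum_congr rfl fun b _ => by ring
      have ht : l (Fin.last j) ≠ 0 := fun ht => by
        refine hl0 (funext fun c' => ?_)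
        have := hA (Fin.init l) fun i h2 => by simpa [ht] using he i (by omega)
        induction c' using Fin.lastCases with
        | last => exact ht
        | cast c' => exact congrFun this c'
      refine ⟨(l (Fin.last j))⁻¹ • Fin.init l, fun i h2 => ?_⟩
      rw [show AK.mulVec ((l (Fin.last j))⁻¹ • Fin.init l) + u =
        (l (Fin.last j))⁻¹ • (AK.mulVec (Fin.init l) + l (Fin.last j) • u) by
          rw [Matrix.mulVec_smul, smul_add, smul_smul, inv_mul_cancel₀ ht, one_smul],
        eval_smul' (formOf_hom c i), he i h2, mul_zero]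
    choose lp hlp using hlift
    let Γ : Fin (m + 1) → MvPolynomial (Fin (m + 1)) k := fun a => aeval (fun t => ∑ r, C (q t r) * X r) (G a)
    have hΓhom : ∀ a, (Γ a).IsHomogeneous (j + 1) := fun a => isHomogeneous_linear _ (hG a)
    let p : Fin (m + 1) → Fin (m + 1) → K := fun a => AK.mulVec (lp a) + BK.mulVec fun b => algebraMap k K (cpt a b)
    have hqp : ∀ a, (q.map (algebraMap k K)).mulVec (p a) = fun b => algebraMap k K (cpt a b) := fun a => by
      simp only [p, Matrix.mulVec_add, Matrix.mulVec_mulVec, hAK, hBK, ← Matrix.map_mul, hqA, hqB]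
      rw [Matrix.map_one _ (map_zero _) (map_one _), Matrix.one_mulVec]
      simp
    have hΓp : ∀ a b, eval (p b) (map (algebraMap k K) (Γ a)) = if a = b then 1 else 0 := fun a b => by
      have e : map (algebraMap k K) (Γ a) =
          aeval (fun t => ∑ r, C (algebraMap k K (q t r)) * X r) (map (algebraMap k K) (G a)) := by
        simp only [Γ]
        induction G a using MvPolynomial.induction_on with
        | C r => simp
        | add p q hp hq => simp only [map_add, hp, hq]
        | mul_X p t hp => simp only [map_mul, hp, aeval_X, map_X, map_sum, map_C]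
      rw [e, eval_aeval, show (fun t => eval (p b) (∑ r, C (algebraMap k K (q t r)) * X r)) =
        fun t => algebraMap k K (cpt b t) from funext fun t => by
          rw [← congrFun (hqp b) t]; simp [Matrix.mulVec, dotProduct], eval_map_map, hGc]
      split_ifs <;> simp
    let Ev : (PlaneParam.Exps m (j + 1) → k) →ₗ[k] (Fin (m + 1) → k) := LinearMap.pi fun a =>
      ∑ e : PlaneParam.Exps m (j + 1), (eval (B.mulVec (cpt a)) (monomial e.1 1)) • LinearMap.proj e
    let Γv : Fin (m + 1) → (PlaneParam.Exps m (j + 1) → k) := fun a e => coeff e.1 (Γ a)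
    have hEvΓ : ∀ a, Ev (Γv a) = Pi.single a 1 := fun a => funext fun b => by
      have h2 : eval (B.mulVec (cpt b)) (Γ a) = if a = b then 1 else 0 := by
        simp only [Γ, eval_aeval]
        rw [show (fun t => eval (B.mulVec (cpt b)) (∑ r, C (q t r) * X r)) = cpt b from funext fun t => by
          have := congrFun (congrArg (fun M : Matrix _ _ k => M.mulVec (cpt b)) hqB) t
          rw [Matrix.one_mulVec, ← Matrix.mulVec_mulVec] at this
          rw [← this]
          simp [Matrix.mulVec, dotProduct]]
        exact hGc a b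
      rw [PlaneParam.eq_sum_exps (hΓhom a), map_sum] at h2
      rw [Pi.single_apply, show (if b = a then (1 : k) else 0) = if a = b then 1 else 0 by simp [eq_comm], ← h2]
      simp only [Ev, LinearMap.pi_apply, LinearMap.sum_apply, LinearMap.smul_apply, smul_eq_mul, Γv]
      refine Finset.sum_congr rfl fun e _ => ?_
      simp only [eval_monomial]
      show _ * coeff e.1 (Γ a) = _
      ring
    let π : (PlaneParam.Exps m (j + 1) → k) →ₗ[k] LinearMap.ker Ev :=
      (LinearMap.id - ∑ a, ((LinearMap.proj a).comp Ev).smulRight (Γv a)).codRestrict _ fun g => by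
        rw [LinearMap.mem_ker, LinearMap.sub_apply, map_sub, LinearMap.id_apply, LinearMap.sum_apply, map_sum]
        simp only [LinearMap.smulRight_apply, map_smul, hEvΓ, LinearMap.comp_apply, LinearMap.proj_apply]
        funext b
        simp [Finset.sum_apply, Pi.single_apply]
    have hker : Module.finrank k (LinearMap.ker Ev) + (m + 1) = Fintype.card (PlaneParam.Exps m (j + 1)) := by
      have h := LinearMap.finrank_range_add_finrank_ker Ev
      have hsurj : Function.Surjective Ev := fun y => ⟨∑ a, y a • Γv a, by
        simp only [map_sum, map_smul, hEvΓ]; funext b; simp [Pi.single_apply]⟩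
      rw [LinearMap.range_eq_top.2 hsurj, finrank_top, Module.finrank_fin_fun, Module.finrank_fintype_fun_eq_card] at h
      omega
    let bK := Module.finBasis k (LinearMap.ker Ev)
    let g : PlaneParam.Exps m (j + 1) → K := fun e => c ⟨j₀, e⟩
    let φ : Fin (Module.finrank k (LinearMap.ker Ev)) → K := fun b =>
      ∑ e : PlaneParam.Exps m (j + 1), algebraMap k K (bK.repr (π (Pi.single e 1)) b) * g e
    let Other := {i : Idx m d // i.1 ≠ j₀}
    let γ' : Other ⊕ Fin (Module.finrank k (LinearMap.ker Ev)) → K := Sum.elim (fun i => c i.1) φ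
    let eqv := Fintype.equivFin (Other ⊕ Fin (Module.finrank k (LinearMap.ker Ev)))
    refine ⟨_, γ' ∘ eqv.symm, ?_, ?_⟩
    · rw [Fintype.card_sum, Fintype.card_fin]
      have h1 : Fintype.card Other + Fintype.card (PlaneParam.Exps m (j + 1)) = Fintype.card (Idx m d) := by
        rw [← Fintype.card_sum]
        refine Fintype.card_congr ?_
        refine (Equiv.sumCongr (Equiv.refl _) ?_).trans (Equiv.sumCompl fun i : Idx m d => i.1 ≠ j₀)
        exact ((Equiv.subtypeEquivRight fun i => not_not).trans
          (Equiv.sigmaSubtype (β := fun i : Fin d => PlaneParam.Exps m (i.1 + 1)) j₀)).symm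
      omega
    rw [Set.range_comp, Equiv.range_eq_univ, Set.image_univ]
    set E0 := IntermediateField.adjoin k (Set.range γ')
    set E1 := (algebraicClosure E0 K).restrictScalars k with hE1
    have hE01 : E0 ≤ E1 := fun x hx => by
      rw [hE1, IntermediateField.mem_restrictScalars, mem_algebraicClosure_iff]
      exact isAlgebraic_algebraMap (⟨x, hx⟩ : E0)
    have hother : ∀ i : Idx m d, i.1 ≠ j₀ → c i ∈ E0 := fun i hi =>
      IntermediateField.subset_adjoin k _ ⟨Sum.inl ⟨i, hi⟩, rfl⟩
    have hφmem : ∀ b, φ b ∈ E0 := fun b => IntermediateField.subset_adjoin k _ ⟨Sum.inr b, rfl⟩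
    let lam : Fin (m + 1) → K := fun a => ∑ e : PlaneParam.Exps m (j + 1), algebraMap k K (Ev (Pi.single e 1) a) * g e
    have hdec : ∀ e, g e =
        (∑ b, algebraMap k K ((bK b : (PlaneParam.Exps m (j + 1) → k)) e) * φ b) + ∑ a, algebraMap k K (Γv a e) * lam a := by
      intro e
      have hid : ∀ e', (∑ b, (bK b : (PlaneParam.Exps m (j + 1) → k)) e * bK.repr (π (Pi.single e' 1)) b) +
          ∑ a, Γv a e * Ev (Pi.single e' 1) a = if e' = e then 1 else 0 := fun e' => by
        have h1 := congrArg (fun w : LinearMap.ker Ev => (w : (PlaneParam.Exps m (j + 1) → k)) e) (bK.sum_repr (π (Pi.single e' 1)))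
        simp only [Submodule.coe_sum, Submodule.coe_smul, Finset.sum_apply, Pi.smul_apply, smul_eq_mul] at h1
        rw [show ∑ b, (bK b : (PlaneParam.Exps m (j + 1) → k)) e * bK.repr (π (Pi.single e' 1)) b =
          (π (Pi.single e' 1) : (PlaneParam.Exps m (j + 1) → k)) e by rw [← h1]; exact Finset.sum_congr rfl fun b _ => mul_comm _ _]
        simp only [π, LinearMap.codRestrict_apply, LinearMap.sub_apply, LinearMap.id_apply, LinearMap.sum_apply,
          Pi.sub_apply, Finset.sum_apply, LinearMap.smulRight_apply, LinearMap.comp_apply, LinearMap.proj_apply,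
          Pi.smul_apply, smul_eq_mul, Pi.single_apply]
        rw [show (∑ a, Γv a e * Ev (Pi.single e' 1) a) = ∑ a, Ev (Pi.single e' 1) a * Γv a e from
          Finset.sum_congr rfl fun a _ => mul_comm _ _, sub_add_cancel]
        simp [eq_comm]
      have hid' : ∀ e', (∑ b, algebraMap k K ((bK b : (PlaneParam.Exps m (j + 1) → k)) e) * algebraMap k K (bK.repr (π (Pi.single e' 1)) b)) +
          ∑ a, algebraMap k K (Γv a e) * algebraMap k K (Ev (Pi.single e' 1) a) = if e' = e then 1 else 0 := fun e' => by
        simp only [← map_mul, ← map_sum, ← map_add, hid e']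
        split_ifs <;> simp
      simp only [φ, lam, Finset.mul_sum, ← mul_assoc]
      rw [Finset.sum_comm, Finset.sum_comm (s := (Finset.univ : Finset (Fin (m + 1)))), ← Finset.sum_add_distrib]
      simp only [← Finset.sum_mul, ← add_mul, hid']
      simp
    have hlalg : ∀ a b, lp a b ∈ E1 := fun a b => by
      have hpart : ∀ i : Fin j, ∀ e, coeff e (formOf c (⟨i.1, by omega⟩ : Fin d)) ∈ E0 := fun i e => by
        simp only [formOf, coeff_sum, coeff_monomial]
        refine sum_mem fun b _ => ?_
        split_ifs
        · exact hother _ (fun h => by have := congrArg Fin.val h; simp [j₀] at this; omega)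
        · exact zero_mem _
      choose F0 hF0 using fun i => exists_map_eq E0 _ (hpart i)
      have hF0hom : ∀ i : Fin j, (F0 i).IsHomogeneous ((i : ℕ) + 1) := fun i e he =>
        formOf_hom c (⟨i.1, by omega⟩ : Fin d) (by
          rw [← hF0 i, coeff_map]
          exact (map_ne_zero_iff _ (RingHom.injective (algebraMap E0 K))).2 he)
      let ρ : Fin (m + 1) → E0 := fun r => algebraMap k E0 (B.mulVec (cpt a) r)
      let Ae : Fin (m + 1) → Fin j → E0 := fun r c' => algebraMap k E0 (A r c')
      have key : ∀ (l : Fin j → K) (r : Fin (m + 1) → E0) (P : MvPolynomial (Fin (m + 1)) E0),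
          aeval l (aeval (fun s => (∑ c', C (Ae s c') * X c') + C (r s)) P) =
            eval (fun s => (AK.mulVec l) s + (r s : K)) (map (algebraMap E0 K) P) := by
        intro l r P
        induction P using MvPolynomial.induction_on with
        | C x => simp
        | add p q hp hq => simp only [map_add, hp, hq]
        | mul_X p s hp =>
          simp only [map_mul, hp, aeval_X, map_X, eval_X]
          congr 1
          simp [Ae, hAK, Matrix.mulVec, dotProduct, ← IsScalarTower.algebraMap_apply]
      have hint := isIntegral_of_top (E := E0) (K := K) (S := E0) (A := K) (fun i : Fin j => (i : ℕ) + 1)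
        (fun i => aeval (fun s => ∑ c', C (Ae s c') * X c') (F0 i))
        (fun i => isHomogeneous_linear _ (hF0hom i))
        (fun l hl => hA l fun i hi => by
          have h3 := hl ⟨i.1, hi⟩
          have e : (fun s => (∑ c', C (Ae s c') * X c' : MvPolynomial (Fin j) E0)) =
              fun s => (∑ c', C (Ae s c') * X c') + C ((0 : Fin (m + 1) → E0) s) := by simp
          simp only [e] at h3
          rw [key, hF0] at h3
          simpa using h3)
        (fun i => aeval (fun s => (∑ c', C (Ae s c') * X c') + C (ρ s)) (F0 i))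
        (fun i => by rw [Algebra.algebraMap_self, map_id]; exact affine_subst Ae ρ (hF0hom i))
        (lp a) (fun i => by
          rw [key, hF0]
          refine Eq.trans (congrArg (fun y => eval y _) (funext fun s => ?_))
            (hlp a (⟨i.1, by omega⟩ : Fin d) (show i.1 < j + 1 by omega))
          have := (algebraMap k K).map_mulVec B (cpt a) s
          rw [Pi.add_apply, hBK]
          exact congrArg _ this) b
      rw [hE1, IntermediateField.mem_restrictScalars, mem_algebraicClosure_iff]
      exact hint.isAlgebraic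
    have hpmem : ∀ a r, p a r ∈ E1 := fun a r => by
      simp only [p, Pi.add_apply, Matrix.mulVec, dotProduct, hAK, hBK, Matrix.map_apply]
      exact add_mem (sum_mem fun b _ => mul_mem (E1.algebraMap_mem _) (hlalg a b))
        (sum_mem fun b _ => mul_mem (E1.algebraMap_mem _) (E1.algebraMap_mem _))
    have hlam : ∀ a, lam a ∈ E1 := by
      intro a
      have hform : formOf c j₀ =
          (∑ e : PlaneParam.Exps m (j + 1), monomial e.1 (∑ b, algebraMap k K ((bK b : (PlaneParam.Exps m (j + 1) → k)) e) * φ b)) +
            ∑ a, C (lam a) * map (algebraMap k K) (Γ a) := by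
        conv_rhs => arg 2; arg 2; ext a; rw [PlaneParam.eq_sum_exps ((hΓhom a).map (algebraMap k K)), Finset.mul_sum]
        rw [Finset.sum_comm (s := (Finset.univ : Finset (Fin (m + 1)))), ← Finset.sum_add_distrib, formOf]
        refine Finset.sum_congr rfl fun e _ => ?_
        simp only [C_mul_monomial, ← map_sum, ← map_add]
        refine congrArg _ ((hdec e).trans ?_)
        exact congrArg₂ (· + ·) rfl (Finset.sum_congr rfl fun a _ => by rw [coeff_map, mul_comm])
      have h1 := hlp a j₀ (Nat.lt_succ_self j)
      rw [hform, map_add, map_sum, map_sum] at h1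
      simp only [map_mul, eval_C, show eval (AK.mulVec (lp a) + BK.mulVec fun b => algebraMap k K (cpt a b)) = eval (p a) from rfl, hΓp, mul_ite, mul_one, mul_zero, Finset.sum_ite_eq', Finset.mem_univ, if_true] at h1
      rw [show lam a = -(∑ e : PlaneParam.Exps m (j + 1), eval (p a) (monomial e.1 (∑ b, algebraMap k K ((bK b : (PlaneParam.Exps m (j + 1) → k)) e) * φ b))) by linear_combination h1]
      refine neg_mem (sum_mem fun e _ => ?_)
      rw [eval_monomial]
      exact mul_mem (sum_mem fun b _ => mul_mem (E1.algebraMap_mem _) (hE01 (hφmem b)))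
        (prod_mem fun r _ => pow_mem (hpmem a r) _)
    intro i
    rw [← mem_algebraicClosure_iff]
    show c i ∈ E1
    by_cases hi : i.1 = j₀
    · obtain ⟨i, e⟩ := i
      subst hi
      show g e ∈ E1
      rw [hdec e]
      exact add_mem (sum_mem fun b _ => mul_mem (E1.algebraMap_mem _) (hE01 (hφmem b)))
        (sum_mem fun a _ => mul_mem (E1.algebraMap_mem _) (hlam a))
    · exact hE01 (hother i hi)

end Groth.Agent.SeqCodim
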