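import Groth.Agent.SeqCodim.Basic
import Groth.Agent.VarDim.Basic
import Mathlib

/-! The locus of degenerate sequences has large codimension. -/

namespace Groth.Agent.SeqCodim

open MvPolynomial ConeLines Filter

universe u

variable {m d : ℕ} {k : Type u} [Field k]

set_option maxHeartbeats 1600000 in
theorem exists_generic (D : Set (Idx m d → k)) (hmeet : ∀ c ∈ D, Meets (k := k) c) [IsAlgClosed k]
    (I : Ideal (MvPolynomial (Idx m d) k)) (hI : ∀ p, p ∈ I ↔ ∀ c ∈ D, eval c p = 0)
    (P : Ideal (MvPolynomial (Idx m d) k)) (hP : P ∈ I.minimalPrimes) :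
    ∃ (K : Type u) (_ : Field K) (_ : IsAlgClosed K) (_ : Algebra k K) (x : Idx m d → K),
      Meets (k := k) x ∧ ∀ p, aeval x p = 0 ↔ p ∈ P := by
  classical
  haveI := hP.1.1
  let s : {p // p ∉ P} → Set D := fun p => {c | eval c.1 p.1 ≠ 0}
  haveI : Nonempty {p // p ∉ P} := ⟨⟨1, fun h => hP.1.1.ne_top ((Ideal.eq_top_iff_one P).2 h)⟩⟩
  haveI hne : (⨅ Q, 𝓟 (s Q)).NeBot := by
    haveI : Nonempty D := by
      by_contra hD
      exact hP.1.1.ne_top ((Ideal.eq_top_iff_one P).2 (hP.1.2 ((hI 1).2 fun c hc => absurd ⟨⟨c, hc⟩⟩ hD)))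
    refine iInf_neBot_of_directed (fun (Q Q' : {p // p ∉ P}) =>
      ⟨⟨Q.1 * Q'.1, fun h => (hP.1.1.mem_or_mem h).elim Q.2 Q'.2⟩, ?_, ?_⟩) fun (Q : {p // p ∉ P}) => ?_
    · exact principal_mono.2 fun c (hc : eval c.1 (Q.1 * Q'.1) ≠ 0) => left_ne_zero_of_mul (map_mul (eval c.1) _ _ ▸ hc)
    · exact principal_mono.2 fun c (hc : eval c.1 (Q.1 * Q'.1) ≠ 0) => right_ne_zero_of_mul (map_mul (eval c.1) _ _ ▸ hc)
    · refine principal_neBot_iff.2 ?_
      by_contra h
      exact Q.2 (hP.1.2 ((hI _).2 fun c hc => by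
        by_contra h0
        exact h ⟨⟨c, hc⟩, h0⟩))
  let U : Ultrafilter D := Ultrafilter.of (⨅ Q, 𝓟 (s Q))
  have hU : ∀ p, p ∉ P → ∀ᶠ c : D in (U : Filter D), eval c.1 p ≠ 0 := fun p hp =>
    (Ultrafilter.of_le _) (mem_iInf_of_mem ⟨p, hp⟩ (mem_principal_self _))
  let K := Filter.Germ (U : Filter D) k
  let π : (D → k) →+* K := Filter.Germ.coeRingHom _
  letI : Algebra k K := (π.comp (algebraMap k (D → k))).toAlgebra
  let x : Idx m d → K := fun i => π fun c => c.1 i
  have hev : ∀ p, aeval x p = π fun c => eval c.1 p := fun p => by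
    induction p using MvPolynomial.induction_on with
    | C r => rw [aeval_C]; simp [RingHom.algebraMap_toAlgebra]; rfl
    | add p q hp hq => rw [map_add, hp, hq, ← map_add]; exact congrArg π (funext fun c => by simp)
    | mul_X p e hp => rw [map_mul, hp, aeval_X, ← map_mul]; exact congrArg π (funext fun c => by simp)
  refine ⟨K, inferInstance, isAlgClosed_germ U, inferInstance, x, fun A => ?_, fun p => ?_⟩
  · choose l hl0 hl using fun c : D => hmeet c.1 c.2 A
    refine ⟨fun b => π fun c => l c b, fun h => ?_, fun j => ?_⟩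
    · obtain ⟨c, hc⟩ := (eventually_all.2 fun b => Filter.Germ.coe_eq.1 (congrFun h b : π (fun c => l c b) = 0)).exists
      exact hl0 c (funext hc)
    · let cu : Idx m d → (D → k) := fun i c => c.1 i
      let pt : Fin (m + 1) → (D → k) := fun a => ∑ b, algebraMap k (D → k) (A a b) * fun c => l c b
      have hf : formOf x j = map π (formOf cu j) := (map_formOf π cu j).symm
      have hp : ((A.map (algebraMap k K)).mulVec fun b => π fun c => l c b) = fun a => π (pt a) := by
        funext a
        simp only [Matrix.mulVec, dotProduct, Matrix.map_apply, pt, map_sum, map_mul]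
        rfl
      rw [hf, hp, eval_map, show (fun a => π (pt a)) = π ∘ pt from rfl, ← eval₂_comp]
      refine (congrArg π (funext fun c => ?_ : _ = (0 : D → k))).trans (map_zero π)
      have e2 : (eval pt (formOf cu j)) c =
          eval (fun a => pt a c) (map (Pi.evalRingHom (fun _ : D => k) c) (formOf cu j)) := by
        rw [eval_map]; exact eval₂_comp (Pi.evalRingHom (fun _ : D => k) c) _ _
      rw [e2, map_formOf]
      refine Eq.trans (congrArg₂ (fun y z => eval y z) (funext fun a => ?_) rfl) (hl c j)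
      simp [pt, Matrix.mulVec, dotProduct, Finset.sum_apply]
  · rw [hev]
    constructor
    · intro h0
      by_contra hp
      obtain ⟨c, hc, hc0⟩ := ((hU p hp).and (Filter.Germ.coe_eq.1 h0)).exists
      exact hc hc0
    · intro hp
      obtain ⟨y, hy⟩ : ∃ y ∉ P, p * y ∈ I := by
        have hfin := Ideal.finite_minimalPrimes_of_isNoetherianRing (MvPolynomial (Idx m d) k) I
        have h1 : ∀ Q ∈ hfin.toFinset.erase P, ∃ t ∈ Q, t ∉ P := fun Q hQ => by
          rw [Finset.mem_erase, Set.Finite.mem_toFinset] at hQ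
          exact SetLike.not_le_iff_exists.1 fun hle => hQ.1 (le_antisymm hle (hP.2 hQ.2.1 hle))
        choose! t ht htP using h1
        refine ⟨∏ Q ∈ hfin.toFinset.erase P, t Q, fun h => ?_, (hI _).2 fun c hc => ?_⟩
        · obtain ⟨Q, hQ, hQP⟩ := hP.1.1.prod_mem_iff.1 h
          exact htP Q hQ hQP
        · have hIrad : p * (∏ Q ∈ hfin.toFinset.erase P, t Q) ∈ I.radical := by
            rw [← Ideal.sInf_minimalPrimes, Submodule.mem_sInf]
            intro Q hQ
            by_cases hQP : Q = P
            · subst hQP; exact Ideal.mul_mem_right _ _ hp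
            · have hQ' : Q ∈ hfin.toFinset.erase P := Finset.mem_erase.2 ⟨hQP, hfin.mem_toFinset.2 hQ⟩
              exact Ideal.mul_mem_left _ _ (Ideal.mem_of_dvd _ (Finset.dvd_prod_of_mem t hQ') (ht Q hQ'))
          obtain ⟨n, hn⟩ := hIrad
          have := (hI _).1 hn c hc
          rw [map_pow] at this
          exact eq_zero_of_pow_eq_zero this
      refine (Filter.Germ.coe_eq.2 ?_).trans (map_zero π)
      filter_upwards [hU y hy.1] with c hc
      have := (hI _).1 hy.2 c.1 c.2
      rw [map_mul] at this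
      exact (mul_eq_zero.1 this).resolve_right hc


set_option maxHeartbeats 1600000 in
theorem codimGE [IsAlgClosed k] (hdm : d + 2 ≤ m) :
    LefPen.CodimGE k
      {G : (j : Fin d) → LefPen.Form m k (j.1 + 1) |
        ((m + 2 - d : ℕ) : WithBot ℕ∞) ≤
          ringKrullDim (MvPolynomial (Fin (m + 1)) k ⧸ Ideal.span (Set.range fun j : Fin d => (G j).1))}
      (m + 1) := by
  classical
  let V := (j : Fin d) → LefPen.Form m k (j.1 + 1)
  let co : V →ₗ[k] (Idx m d → k) := LinearMap.pi fun i => ((lcoeff k i.2.1).comp (Submodule.subtype _)).comp (LinearMap.proj i.1)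
  let T : (Idx m d → k) →ₗ[k] V :=
    { toFun := fun c j => ⟨formOf c j, formOf_hom c j⟩
      map_add' := fun c c' => funext fun j => Subtype.ext (by
        rw [Pi.add_apply, Submodule.coe_add]
        simp [formOf, Finset.sum_add_distrib])
      map_smul' := fun a c => funext fun j => Subtype.ext (by
        rw [RingHom.id_apply, Pi.smul_apply, Submodule.coe_smul]
        simp [formOf, Finset.smul_sum, smul_monomial]) }
  have hTco : ∀ G, T (co G) = G := fun G => funext fun j => Subtype.ext (PlaneParam.eq_sum_exps (G j).2).symm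
  have hcoT : ∀ c, co (T c) = c := fun c => funext fun i => coeff_formOf c i.1 i.2
  let R := MvPolynomial (Idx m d) k
  let ψ : R →ₐ[k] ↥(LefPen.polyFunAlg k V) :=
    aeval fun i => ⟨fun G => co G i, Algebra.subset_adjoin ⟨(LinearMap.proj i).comp co, rfl⟩⟩
  have hψ : ∀ P G, (ψ P).1 G = eval (co G) P := fun P G => by
    induction P using MvPolynomial.induction_on with
    | C a => rw [show ψ (C a) = algebraMap k _ a from aeval_C _ _, eval_C]; rfl
    | add p q hp hq => simp [map_add, hp, hq]
    | mul_X p e hp =>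
      simp only [map_mul, eval_X, Subalgebra.coe_mul, Pi.mul_apply, hp]
      rw [show ψ (X e) = _ from aeval_X _ _]
  have hbij : Function.Bijective ψ := by
    refine ⟨fun p q h => MvPolynomial.funext fun c => by rw [← hcoT c, ← hψ, ← hψ, h], fun ⟨f, hf⟩ => ?_⟩
    have : f ∈ (((LefPen.polyFunAlg k V).val.comp ψ).range) := by
      refine Algebra.adjoin_le ?_ hf
      rintro _ ⟨l, rfl⟩
      refine ⟨∑ i, C (l (T (Pi.single i 1))) * X i, funext fun G => ?_⟩
      show (ψ (∑ i, C (l (T (Pi.single i 1))) * X i)).1 G = l G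
      rw [hψ]
      conv_rhs => rw [← hTco G, pi_eq_sum_univ' (co G), map_sum, map_sum]
      rw [map_sum]
      refine Finset.sum_congr rfl fun i _ => ?_
      rw [map_mul, eval_C, eval_X, map_smul, map_smul, smul_eq_mul, mul_comm]
    obtain ⟨p, hp⟩ := this
    exact ⟨p, Subtype.ext hp⟩
  let e := (AlgEquiv.ofBijective ψ hbij).toRingEquiv
  unfold LefPen.CodimGE
  rw [← e.height_comap]
  set D : Set V := {G : V | ((m + 2 - d : ℕ) : WithBot ℕ∞) ≤
          ringKrullDim (MvPolynomial (Fin (m + 1)) k ⧸ Ideal.span (Set.range fun j : Fin d => (G j).1))}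
  set I := (LefPen.vanishingFun k D).comap e
  have hI : ∀ p, p ∈ I ↔ ∀ c ∈ co '' D, eval c p = 0 := fun p => by
    show (∀ G ∈ D, (ψ p).1 G = 0) ↔ _
    simp only [Set.forall_mem_image, hψ]
  have hmeet : ∀ c ∈ co '' D, Meets (k := k) c := by
    rintro _ ⟨G, hG, rfl⟩
    refine meets_of_dim _ ?_ hdm
    have e2 : (fun j : Fin d => formOf (co G) j) = fun j => (G j).1 :=
      funext fun j => congrArg Subtype.val (congrFun (hTco G) j)
    rw [e2]
    exact hG
  rw [Ideal.height_eq_inf_minimalPrimes]
  refine le_iInf₂ fun P hmin => ?_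
  haveI : P.IsPrime := hmin.1.1
  obtain ⟨K, _, _, _, x, hx, hker⟩ := exists_generic (co '' D) hmeet I hI P hmin
  obtain ⟨r, γ, hr, halg⟩ := exists_generators hdm x hx
  obtain ⟨n, hn, htr⟩ := VarDim.exists_dim_eq_trdeg (k := k) (R ⧸ P)
  let f : R ⧸ P →ₐ[k] K := Ideal.Quotient.liftₐ P (aeval x) fun p hp => (hker p).2 hp
  have hf : Function.Injective f := (injective_iff_map_eq_zero f).2 fun y hy => by
    obtain ⟨p, rfl⟩ := Ideal.Quotient.mk_surjective y
    exact Ideal.Quotient.eq_zero_iff_mem.2 ((hker p).1 hy)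
  let gen : Idx m d → R ⧸ P := fun i => Ideal.Quotient.mkₐ k P (X i)
  haveI : FaithfulSMul k (R ⧸ P) := (faithfulSMul_iff_algebraMap_injective _ _).2 (algebraMap k (R ⧸ P)).injective
  have htop : Algebra.adjoin k (Set.range gen) = ⊤ := by
    rw [show Set.range gen = Ideal.Quotient.mkₐ k P '' Set.range (X : Idx m d → R) from Set.range_comp _ _,
      ← AlgHom.map_adjoin, MvPolynomial.adjoin_range_X, Algebra.map_top,
      AlgHom.range_eq_top]
    exact Ideal.Quotient.mkₐ_surjective k P
  haveI : Algebra.IsAlgebraic (Algebra.adjoin k (Set.range gen)) (R ⧸ P) := ⟨fun y =>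
    isAlgebraic_algebraMap (⟨y, htop ▸ Algebra.mem_top⟩ : Algebra.adjoin k (Set.range gen))⟩
  obtain ⟨t, htg, ht⟩ := exists_isTranscendenceBasis_subset (R := k) (Set.range gen)
  choose g hg using fun y : t => htg y.2
  have hginj : Function.Injective g := fun y z h => Subtype.ext (by rw [← hg y, ← hg z, h])
  have hind : AlgebraicIndependent k fun i : Set.range g => x i.1 := by
    have h1 := (ht.1.map' hf).comp (Equiv.ofInjective g hginj).symm (Equiv.injective _)
    convert h1 using 1
    funext i
    obtain ⟨_, y, rfl⟩ := i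
    simp only [Function.comp_apply, Equiv.ofInjective_symm_apply]
    rw [← hg y]
    show x (g y) = f (Ideal.Quotient.mk P (X (g y)))
    rw [show f (Ideal.Quotient.mk P (X (g y))) = aeval x (X (g y)) from rfl, aeval_X]
  have hcard := card_le_of_isAlgebraic _ hind γ fun i => halg i.1
  have hcardt : Cardinal.mk t = (Fintype.card (Set.range g) : ℕ) := by
    haveI := Fintype.ofInjective g hginj
    rw [Cardinal.mk_fintype]
    exact congrArg _ ((Fintype.card_congr (Equiv.ofInjective g hginj)).trans (by convert rfl))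
  have hnr : n ≤ r := by
    rw [Fintype.card_fin] at hcard
    have h2 := ht.cardinalMk_eq_trdeg
    rw [htr, hcardt] at h2
    have : Fintype.card (Set.range g) = n := by exact_mod_cast h2
    omega
  have := height_ge (K := k) (R := R) (N := Fintype.card (Idx m d)) (r := r)
    (by rw [MvPolynomial.ringKrullDim_of_isNoetherianRing, ringKrullDim_eq_zero_of_field, zero_add, Nat.card_eq_fintype_card]) P
    (hn.le.trans (by exact_mod_cast hnr))
  exact le_trans (by exact_mod_cast (show m + 1 ≤ Fintype.card (Idx m d) - r by omega)) this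

end Groth.Agent.SeqCodim
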